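import Cfsg.Agent.Mrg.Omega.NO3S.ThmB.Main
import Cfsg.Agent.Mrg.Omega.NOThreeL.Merge
import Cfsg.Agent.Mrg.Omega.NOThreeL.VF.Nat
import Cfsg.Agent.Mrg.Omega.NOThreeL.VF.EqNat
import Cfsg.Agent.Mrg.Omega.NOThreeL.VF.Core
import Cfsg.Agent.Mrg.Omega.NOThreeL.VF.One
import Cfsg.Agent.Mrg.Omega.NO3S.OneLine.Abs

-- merged: Cfsg.Agent.Mrg.Omega.NO3S.Level.Top
section

/-!
# The top level (helper781, #19713 (B))

`K₀` : the largest subgroup of `S` which is weakly closed in `S` and contained in `O₂(P)` for all `P ∈ P*(S)`,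
`M₀ = N_G(K₀)`, `X₀ = Ω₁(Z(K₀))`.  Suppose `J(S) ≤ O₂(P)` for all `P ∈ P*(S)`.

* `lev_K0` : `K₀` is a level; `par_le`, `MZ_le`, `norm_le` : `P*(S) ⊆ M₀`, `N_G(T) ≤ M₀` for `K₀ ≤ T ≤ S`;
* `cs_of_le` : `C_S(V) = K₀` for `⟨Z^{M₀}⟩ ≤ V ≤ X₀`, `V` normal in `M₀`;
* `principle` : a family of subgroups of `G`, closed under `M₀`, with a member in `S` but not in `K₀`, has a member in
  `S` which is not in `O₂(P)` for some `P ∈ P*(S)`;
* `stageK`, `exists_pss` : THEOREM B at the level `K₀`: if `nxt S K₀ ≰ K₀`, then `nxt S K₀ ≰ O₂(P)` for some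
  `P ∈ P**`;
* `nff_X0` : if `nxt S K₀ ≤ K₀`, then `X₀` is not FF.
-/

set_option autoImplicit false
set_option linter.unusedSectionVars false

namespace Cfsg.Agent.Omega.NO3S.Level

open Subgroup Cfsg Cfsg.Agent.ZN Cfsg.Agent.ZN.ChoiceBase Cfsg.Agent.Omega.MinPar Cfsg.Agent.Omega.Frame
open Cfsg.Agent.Omega.FrameNOFF (CZ)
open Cfsg.Agent.Omega.NO1.BestOff (Best exists_best)
open Cfsg.Agent.Omega.NO3b.Wc (WC cj_sSup)
open Cfsg.Agent.Omega.FFThm (OffM ElemM)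

universe u

variable {G : Type u} [Group G]

theorem WC.mem_norm {S K : Subgroup G} (h : WC S K) {g : G} (hg : cj g K ≤ S) : g ∈ normalizer (K : Set G) :=
  mem_normalizer_iff_cj.2 (h.eq g hg)

theorem WC.norm_le {S K T : Subgroup G} (h : WC S K) (h1 : K ≤ T) (h2 : T ≤ S) :
    normalizer (T : Set G) ≤ normalizer (K : Set G) := fun g hg => WC.mem_norm h (by
  have h3 := cj_mono g h1
  rw [cj_eq_of_mem_normalizer hg] at h3
  exact h3.trans h2)

section defs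

variable [Finite G]

/-- The largest weakly closed subgroup of `S` in all `O₂(P)`, `P ∈ P*(S)`. -/
def K0 (S : Subgroup G) : Subgroup G := sSup {B | WC S B ∧ ∀ P, IsParS S P → B ≤ o2 P}

/-- `N_G(K₀)` -/
def M0 (S : Subgroup G) : Subgroup G := normalizer (K0 S : Set G)

/-- `Ω₁(Z(K₀))` -/
noncomputable def X0 (S : Subgroup G) : Subgroup G := zc (K0 S)

theorem wc_K0 (S : Subgroup G) : WC S (K0 S) := WC.sSup fun _ hb => hb.1

theorem K0_le (S : Subgroup G) : K0 S ≤ S := (wc_K0 S).le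

theorem K0_le_o2 {S P : Subgroup G} (hP : IsParS S P) : K0 S ≤ o2 P := sSup_le fun _ hb => hb.2 P hP

theorem le_K0 {S B : Subgroup G} (hB : WC S B) (h : ∀ P, IsParS S P → B ≤ o2 P) : B ≤ K0 S := le_sSup ⟨hB, h⟩

theorem norm_le {S T : Subgroup G} (h1 : K0 S ≤ T) (h2 : T ≤ S) : normalizer (T : Set G) ≤ M0 S :=
  WC.norm_le (wc_K0 S) h1 h2

theorem S_le_M0 (S : Subgroup G) : S ≤ M0 S := le_normalizer.trans (norm_le (K0_le S) le_rfl)

theorem M0_norm (S : Subgroup G) : M0 S ≤ normalizer (X0 S : Set G) := normalizer_le_zc _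

theorem K0_cent (S : Subgroup G) : K0 S ≤ centralizer (X0 S : Set G) := le_centralizer_zc _

theorem X0_sq (S : Subgroup G) : ∀ v ∈ X0 S, v ^ 2 = 1 := fun _ hv => (ChoiceBase.mem_zc.1 hv).2.1

theorem X0_comm (S : Subgroup G) : X0 S ≤ centralizer (X0 S : Set G) :=
  (ZN.zc_le _).trans (le_centralizer_zc _)

end defs

variable [Finite G] {S : Sylow 2 G} {P : Subgroup G}

theorem par_le (hP : IsParS (S : Subgroup G) P) : P ≤ M0 (S : Subgroup G) :=
  (ZN.le_normalizer_o2 P).trans (norm_le (K0_le_o2 hP) (hP.isLoc.o2_le S))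

theorem MZ_le : NOThreeL.Merge.MZ (S : Subgroup G) ≤ M0 (S : Subgroup G) := sSup_le fun _ hP => par_le hP

/-- `J(S) ≤ O₂(P)` for all `P ∈ P*(S)`: `K₀` is a level. -/
theorem lev_K0 (hj : ∀ P, IsParS (S : Subgroup G) P → jj (S : Subgroup G) ≤ o2 P) :
    Lev (S : Subgroup G) (K0 (S : Subgroup G)) where
  le := K0_le _
  jjle := le_K0 (wc_jj S) hj
  norm := fun _ h1 h2 => norm_le h1 h2

section

variable (hG : IsCharacteristicTwoType G) (hj : ∀ P, IsParS (S : Subgroup G) P → jj (S : Subgroup G) ≤ o2 P)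

include hj in
theorem zc_le_X0 : zc (S : Subgroup G) ≤ X0 (S : Subgroup G) := (lev_K0 hj).zc_le

include hj in
/-- `⟨Z^{M₀}⟩ ≤ X₀` -/
theorem zl_M0_le : zl (S : Subgroup G) (M0 (S : Subgroup G)) ≤ X0 (S : Subgroup G) :=
  ZN.zl_le (zc_le_X0 hj) (M0_norm _)

include hj in
/-- `⟨Z^L⟩ ≤ X₀` for `L ≤ M₀` -/
theorem zl_le_X0 {L : Subgroup G} (hL : L ≤ M0 (S : Subgroup G)) : zl (S : Subgroup G) L ≤ X0 (S : Subgroup G) :=
  ZN.zl_le (zc_le_X0 hj) (hL.trans (M0_norm _))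

include hG in
/-- A subgroup of `S` which centralises `V ≥ ⟨Z^{M₀}⟩` lies in all `O₂(P)`. -/
theorem le_o2_of_cent {V : Subgroup G} (hV : zl (S : Subgroup G) (M0 (S : Subgroup G)) ≤ V)
    (hP : IsParS (S : Subgroup G) P) : (S : Subgroup G) ⊓ centralizer (V : Set G) ≤ o2 P := by
  rw [← IsParS.inf_centralizer S hG hP]
  exact inf_le_inf_left _ (centralizer_le
    ((ZN.zl_le (ZN.zc_le_zl) ((par_le hP).trans (MinSimple.VModule.le_normalizer_zl _ _))).trans hV))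

include hG in
/-- `C_S(V) = K₀` for `⟨Z^{M₀}⟩ ≤ V ≤ X₀`, `V` normal in `M₀`. -/
theorem cs_of_le {V : Subgroup G} (h1 : zl (S : Subgroup G) (M0 (S : Subgroup G)) ≤ V) (h2 : V ≤ X0 (S : Subgroup G))
    (h3 : M0 (S : Subgroup G) ≤ normalizer (V : Set G)) :
    (S : Subgroup G) ⊓ centralizer (V : Set G) = K0 (S : Subgroup G) := by
  have hK : K0 (S : Subgroup G) ≤ (S : Subgroup G) ⊓ centralizer (V : Set G) :=
    le_inf (K0_le _) ((K0_cent _).trans (centralizer_le h2))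
  refine le_antisymm (le_K0 ⟨inf_le_left, fun g hg => ?_⟩ fun P hP => le_o2_of_cent hG h1 hP) hK
  have h4 : g ∈ M0 (S : Subgroup G) := WC.mem_norm (wc_K0 _) ((cj_mono g hK).trans hg)
  have h5 : cj g V = V := cj_eq_of_mem_normalizer (h3 h4)
  have h6 : cj g ((S : Subgroup G) ⊓ centralizer (V : Set G)) ≤ (S : Subgroup G) ⊓ centralizer (V : Set G) := by
    refine le_inf hg ?_
    rw [cj_inf, cj_centralizer, h5]
    exact inf_le_right
  exact Subgroup.eq_of_le_of_card_ge h6 (card_cj _ _).ge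

include hG hj in
/-- `C_S(X₀) = K₀` -/
theorem cs_X0 : (S : Subgroup G) ⊓ centralizer (X0 (S : Subgroup G) : Set G) = K0 (S : Subgroup G) :=
  cs_of_le hG (zl_M0_le hj) le_rfl (M0_norm _)

include hG hj in
/-- `C_S(⟨Z^{M₀}⟩) = K₀` -/
theorem cs_V0 : (S : Subgroup G) ⊓ centralizer (zl (S : Subgroup G) (M0 (S : Subgroup G)) : Set G) =
    K0 (S : Subgroup G) :=
  cs_of_le hG le_rfl (zl_M0_le hj) (MinSimple.VModule.le_normalizer_zl _ _)

end

/-- **PRINCIPLE.** -/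
theorem principle {F : Set (Subgroup G)} (hF : ∀ A ∈ F, ∀ n ∈ M0 (S : Subgroup G), cj n A ∈ F)
    {A : Subgroup G} (hA : A ∈ F) (hAS : A ≤ (S : Subgroup G)) (hAK : ¬ A ≤ K0 (S : Subgroup G)) :
    ∃ B ∈ F, B ≤ (S : Subgroup G) ∧ ∃ P, IsParS (S : Subgroup G) P ∧ ¬ B ≤ o2 P := by
  by_contra hcon
  have hcon' : ∀ B ∈ F, B ≤ (S : Subgroup G) → ∀ P, IsParS (S : Subgroup G) P → B ≤ o2 P := by
    intro B hB hBS P hP
    by_contra h1
    exact hcon ⟨B, hB, hBS, P, hP, h1⟩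
  set K : Subgroup G := K0 (S : Subgroup G) ⊔ sSup {B | B ∈ F ∧ B ≤ (S : Subgroup G)} with hK
  have hKS : K ≤ (S : Subgroup G) := sup_le (K0_le _) (sSup_le fun B hB => hB.2)
  have hKW : K ≤ K0 (S : Subgroup G) := by
    refine le_K0 ⟨hKS, fun g hg => ?_⟩ fun P hP => sup_le (K0_le_o2 hP) (sSup_le fun B hB => hcon' B hB.1 hB.2 P hP)
    have h2 : g ∈ M0 (S : Subgroup G) := WC.mem_norm (wc_K0 _) ((cj_mono g le_sup_left).trans hg)
    have h4 : cj g K ≤ K := by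
      change Subgroup.map _ _ ≤ _
      rw [hK, Subgroup.map_sup]
      refine sup_le_sup (cj_eq_of_mem_normalizer h2).le ?_
      change cj g (sSup {B | B ∈ F ∧ B ≤ (S : Subgroup G)}) ≤ _
      rw [cj_sSup]
      refine iSup_le fun B => ?_
      have h5 : cj g (B : Subgroup G) ≤ (S : Subgroup G) :=
        (cj_mono g ((le_sSup B.2).trans le_sup_right)).trans hg
      exact le_sSup (a := cj g (B : Subgroup G)) ⟨hF _ B.2.1 g h2, h5⟩
    exact Subgroup.eq_of_le_of_card_ge h4 (card_cj _ _).ge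
  have h6 : A ≤ K := (le_sSup (s := {B | B ∈ F ∧ B ≤ (S : Subgroup G)}) ⟨hA, hAS⟩).trans le_sup_right
  exact hAK (h6.trans hKW)

/-! ### Offenders on `X₀` -/

/-- **THEOREM B at a level `K`.** -/
theorem stageK {R : Subgroup G} (h : HypN S P) (hty : ThmB.Main.Ty (S : Subgroup G) P)
    (hR : IsParS (S : Subgroup G) R)
    (hloc : ¬ NonLoc R (CZ (S : Subgroup G)) ∨ ∃ z ∈ zc (S : Subgroup G), ∃ z' ∈ zc (S : Subgroup G), z ≠ 1 ∧ z' ≠ 1 ∧
      z ≠ z') {K : Subgroup G} (hK : Lev (S : Subgroup G) K) (hKP : K ≤ o2 P) (hKR : K ≤ o2 R)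
    (hn : nxt (S : Subgroup G) K ≤ o2 P) : nxt (S : Subgroup G) K ≤ o2 R := by
  by_contra hcon
  have hG := h.ctx.char2
  have hL := ThmB.Main.isLoc_sup hG h.noFF h.star hR
  have h2 := ThmB.Inst.exists_BO hG hR hK hKR hcon
  exact ThmB.Main.core h hty hR hloc (ThmB.Inst.bsit_BO hG h.star hR hL hK hKP hKR
    (fun A hA => (BO.le_nxt hA).trans hn) h2) h2

/-- **The stage of `P` at a general level**: `J(S) ≰ O₂(P)`, or there is a level `K ≤ O₂(R)` for all `R ∈ P*(S)` with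
`nxt S K ≰ O₂(P)`. -/
def LevStK (S P : Subgroup G) : Prop :=
  ¬ jj S ≤ o2 P ∨ ∃ K, Lev S K ∧ (∀ R, IsParS S R → K ≤ o2 R) ∧ ¬ nxt S K ≤ o2 P

/-- **(L)** if the next level of `K₀` is not `K₀`, then some `P ∈ P**` has `nxt S K₀ ≰ O₂(P)`. -/
theorem exists_pss (h : HypC S) (hty : ∀ P, PSS (S : Subgroup G) P → ThmB.Main.Ty (S : Subgroup G) P)
    (hj : ∀ P, IsParS (S : Subgroup G) P → jj (S : Subgroup G) ≤ o2 P)
    (hn : ¬ nxt (S : Subgroup G) (K0 (S : Subgroup G)) ≤ K0 (S : Subgroup G)) :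
    ∃ P, PSS (S : Subgroup G) P ∧ ¬ nxt (S : Subgroup G) (K0 (S : Subgroup G)) ≤ o2 P := by
  by_contra hcon
  push Not at hcon
  obtain ⟨P, hP, hPn⟩ := h.ex
  refine hn (le_K0 (wc_nxt (wc_K0 _)) fun R hR => ?_)
  by_cases hl : NonLoc R (CZ (S : Subgroup G))
  · exact hcon R ⟨hR, hl⟩
  · exact stageK (h.hypN hP hPn) (hty P ⟨hP, hPn⟩) hR (Or.inl hl) (lev_K0 hj) (K0_le_o2 hP) (K0_le_o2 hR)
      (hcon P ⟨hP, hPn⟩)

/-- `J(S) ≤ O₂(P)` for all `P ∈ P*(S)`. -/
theorem jj_le_all (h : HypC S) (hty : ∀ P, PSS (S : Subgroup G) P → ThmB.Main.Ty (S : Subgroup G) P) :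
    ∀ P, IsParS (S : Subgroup G) P → jj (S : Subgroup G) ≤ o2 P := by
  intro R hR
  obtain ⟨P, hP, hPn⟩ := h.ex
  by_cases hl : NonLoc R (CZ (S : Subgroup G))
  · exact h.jle R hR hl
  · exact ThmB.Main.stage_jj (h.hypN hP hPn) (hty P ⟨hP, hPn⟩) hR (Or.inl hl) (h.jle P hP hPn)

/-- If `nxt S K₀ ≤ K₀`, then `X₀` is not FF. -/
theorem nff_X0 (hn : nxt (S : Subgroup G) (K0 (S : Subgroup G)) ≤ K0 (S : Subgroup G)) :
    NO3b.EZero.NotFF (X0 (S : Subgroup G)) := by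
  by_contra hf
  have hSV : (S : Subgroup G) ≤ normalizer (X0 (S : Subgroup G) : Set G) := (S_le_M0 _).trans (M0_norm _)
  simp only [NO3b.EZero.NotFF, not_forall, not_lt] at hf
  obtain ⟨A, hA2, hAN, hsq, hcm, hne, hle⟩ := hf
  obtain ⟨g, hg, hgS⟩ := FFThm.exists_conj_le S hSV hA2 hAN
  have hV : cj g (X0 (S : Subgroup G)) = X0 (S : Subgroup G) := cj_eq_of_mem_normalizer hg
  have hC : cj g (centralizer (X0 (S : Subgroup G) : Set G)) = centralizer (X0 (S : Subgroup G) : Set G) := by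
    rw [cj_centralizer, hV]
  have hoff : OffM (X0 (S : Subgroup G)) A := by
    refine { sq := hsq, comm := hcm, ne := hne, le := FFThm.relIndex_le_iff.2 hle }
  obtain ⟨X, hXA, hX, hXne⟩ := exists_best hoff
  have h1 : cj g X ∈ BO (S : Subgroup G) (K0 (S : Subgroup G)) :=
    ⟨(cj_mono g hXA).trans hgS, hX.conj hg⟩
  have h2 := ((BO.le_nxt h1).trans hn).trans (K0_cent _)
  rw [← hC] at h2
  have h3 := cj_mono g⁻¹ h2
  rw [cj_inv_cj, cj_inv_cj] at h3
  exact hXne h3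

end Cfsg.Agent.Omega.NO3S.Level

end

-- merged: Cfsg.Agent.Mrg.Omega.NOThreeL.VF.End
section

/-!
# NO-3L, THEOREM VF (#16966, helper597), steps (6) - (8) (helper924; (8') helper686 #17040)

* `fus` : `C_{V_P}(O²(P)) = 1`, `V_P` an FF-module for `P`: for `1 ≠ z ∈ Ω₁(Z(S))` and every `m ∈ N_G(V_P)` the
  element `z^m` is conjugate to `z` in `P`;
* `false_of_eq` : in NO-3L with `C_Z(P) = 1` for all `P ∈ P*(S)`: no `P ∈ P*(S)` with `V_P` an FF-module and
  `V_P` normalised by all members of `P*(S)`.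
-/

set_option autoImplicit false

namespace Cfsg.Agent.Omega.NOThreeL.VF

open Subgroup Cfsg Cfsg.Agent.ZN Cfsg.Agent.Omega.MinPar Cfsg.Agent.Omega.Frame Cfsg.Agent.Omega.FrameNOFF
open Cfsg.Agent.Omega.NOThreeL.Basic
open Cfsg.Agent.Omega.FFThm (OffM ElemM)
open Cfsg.Agent.MinSimple.VModule (mem_zc zc_le le_normalizer_o2 o2_isPGroup)

universe u

variable {G : Type u} [Group G] [Finite G] {S : Sylow 2 G} {P : Subgroup G}

/-- **(6)** -/
theorem fus (hFF : FFThm.StmtM.{u}) (hc : IsCharacteristicTwoType G) (hP : IsPar (S : Subgroup G) P)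
    (hcv : FrameFF.cv (S : Subgroup G) P = ⊥) (hoff : ∃ A : Subgroup G, A ≤ (S : Subgroup G) ∧
      OffM (zl (S : Subgroup G) P) A) {z : G} (hz : z ∈ zc (S : Subgroup G)) (hz1 : z ≠ 1) {m : G}
    (hm : m ∈ normalizer (zl (S : Subgroup G) P : Set G)) : ∃ l ∈ P, m * z * m⁻¹ = l * z * l⁻¹ := by
  obtain ⟨A, hA, hoff⟩ := hoff
  have hamb := Half.amb_of_loc hc S hP.isLoc
  have hsyl : ZN.ChoiceSit.Syl (S : Subgroup G) P :=
    ⟨hP.le, S.isPGroup', fun Q _ hQ hSQ => S.is_maximal' hQ hSQ⟩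
  obtain ⟨-, hC⟩ := hFF G (S : Subgroup G) P hsyl hP.toIsMinPar (hP.isLoc.char2 S hc) ⟨A, hA.trans hP.le, hoff⟩
  rcases hC with ⟨F, _, _, _, k, hk, ⟨M⟩⟩ | ⟨k, n, hk, hn, ⟨M⟩⟩
  · rw [hcv] at M
    exact Nat.fus M hamb hz hz1 hm
  · rw [hcv] at M
    exact Sym.fus M hn hamb hz hz1 hm

/-- **(6) - (8)** -/
theorem false_of_eq (hFF : FFThm.StmtM.{u}) (h : Ctx G) (hF : Full (S : Subgroup G))
    (D : DataZ (S : Subgroup G)) (hP : IsParS (S : Subgroup G) P)
    (hoff : ∃ A : Subgroup G, A ≤ (S : Subgroup G) ∧ OffM (zl (S : Subgroup G) P) A)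
    (hV : ∀ R, IsParS (S : Subgroup G) R → R ≤ normalizer (zl (S : Subgroup G) P : Set G)) : False := by
  obtain ⟨z, hz, hz1⟩ : ∃ z ∈ zc (S : Subgroup G), z ≠ 1 := by
    by_contra hcon
    push Not at hcon
    exact hP.not_zc (by
      have h1 : zc (S : Subgroup G) = ⊥ := le_bot_iff.1 fun x hx => mem_bot.2 (hcon x hx)
      rw [h1, normalizer_eq_top_iff.2 inferInstance]
      exact le_top)
  exact false_of_fus h hF D hP hz hz1 fun R hR m hm =>
    fus hFF h.char2 hP.toIsPar (D.cv_eq h.char2 hP) hoff hz hz1 (hV R hR hm)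

end Cfsg.Agent.Omega.NOThreeL.VF

end

-- merged: Cfsg.Agent.Mrg.Omega.NOThreeL.VF.All
section

/-!
# THEOREM VF (#16966)

* `eq_zl` : `M ∈ L(S)` generated by members of `P*(S)` with `C_V(O²(P)) = 1`, an offender on `V_M = zl S M`
  gives `V_M = V_P` for some `P ∈ P*(S)`, `P ≤ M`, with an offender on `V_P`;
* `false_of_off` : `Full`, `DataZ`, `M₀ = ⟨P*(S)⟩` local: there is no offender on `zl S M₀`.
-/

set_option autoImplicit false

namespace Cfsg.Agent.Omega.NOThreeL.VF.Q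

open Subgroup Cfsg Cfsg.Agent.ZN Cfsg.Agent.Omega.MinPar Cfsg.Agent.Omega.FFThm Cfsg.Agent.Omega.Frame
open Cfsg.Agent.ZN.ChoiceSit (Syl)
open Cfsg.Agent.Omega.FrameFF (cv)

universe u

variable {G : Type u} [Group G] [Finite G]

/-- **THEOREM VF, (1)-(5).** -/
theorem eq_zl (hFF : StmtM.{u}) (hc : IsCharacteristicTwoType G) (S : Sylow 2 G) {M : Subgroup G}
    (hM : IsLoc (S : Subgroup G) M) (hgen : M ≤ sSup {P | IsParS (S : Subgroup G) P ∧ P ≤ M})
    (hcv : ∀ P, IsParS (S : Subgroup G) P → P ≤ M → cv (S : Subgroup G) P = ⊥)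
    (hoff : ∃ A ≤ M, OffM (zl (S : Subgroup G) M) A) :
    ∃ P, IsParS (S : Subgroup G) P ∧ P ≤ M ∧ zl (S : Subgroup G) M = zl (S : Subgroup G) P ∧
      ∃ A ≤ (S : Subgroup G), OffM (zl (S : Subgroup G) P) A := by
  obtain ⟨no, P, hP, hPM, A, hA, offW, offV, hAC, hcon⟩ := VF.one hFF hc S hM hgen hoff
  refine ⟨P, hP, hPM, ?_, A, hA, offV⟩
  have hSP : (S : Subgroup G) ≤ P := hP.le
  have hno : NoOverM (zl (S : Subgroup G) P) P :=
    (hFF G S P (syl_of_sylow S hSP) hP.toIsMinPar (hP.isLoc.char2 S hc) ⟨A, hA.trans hSP, offV⟩).1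
  have hVW : zl (S : Subgroup G) P ≤ zl (S : Subgroup G) M := by
    unfold zl
    exact iSup_le fun p => le_iSup (fun g : M => (zc (S : Subgroup G)).map (MulAut.conj (g : G)).toMonoidHom)
      ⟨p, hPM p.2⟩
  have hE := FFThm.elem_zl hc S hM
  have s : Sit M (zl (S : Subgroup G) M) (zl (S : Subgroup G) P) :=
    { ab := fun x hx y hy => congrArg Subtype.val (hE.1.is_comm.comm ⟨x, hx⟩ ⟨y, hy⟩)
      sq := fun x hx => by rw [← pow_two]; exact hE.2 x hx
      VW := hVW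
      nW := le_normalizer_zl _ _ }
  have hWS : zl (S : Subgroup G) M ≤ (S : Subgroup G) := ((hM.zl_le S hc).trans (zc_le _)).trans (hM.o2_le S)
  have hcv' := hcv P hP hPM
  refine le_antisymm ?_ hVW
  rcases hcon with ⟨F, _, _, _, k, hk, ⟨N⟩⟩ | ⟨k, m, hk, hm, ⟨N⟩⟩
  · rw [hcv'] at N
    exact nat_le N s S.isPGroup' hSP hPM hWS no hno hA offW offV.ne hAC
  · rw [hcv'] at N
    exact Q.S.sym_le N (by omega) s S.isPGroup' hSP hPM hWS no hno hA offW offV.ne hAC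

/-- **THEOREM VF.** `Full`, `DataZ`, `M₀ = ⟨P*(S)⟩` local: there is no offender on `zl S M₀`. -/
theorem false_of_off (hFF : StmtM.{u}) (h : Ctx G) (S : Sylow 2 G) (hF : Full (S : Subgroup G))
    (D : Basic.DataZ (S : Subgroup G)) (hM : IsLoc (S : Subgroup G) (sSup {P | IsParS (S : Subgroup G) P}))
    (hoff : ∃ A ≤ sSup {P | IsParS (S : Subgroup G) P},
      OffM (zl (S : Subgroup G) (sSup {P | IsParS (S : Subgroup G) P})) A) : False := by
  have hle : ∀ P, IsParS (S : Subgroup G) P → P ≤ sSup {P | IsParS (S : Subgroup G) P} := fun P hP =>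
    le_sSup hP
  obtain ⟨P, hP, -, he, A, hA, hAo⟩ := eq_zl hFF h.char2 S hM
    (sSup_le fun P hP => le_sSup ⟨hP, hle P hP⟩) (fun P hP _ => D.cv_eq h.char2 hP) hoff
  refine VF.false_of_eq hFF h hF D hP ⟨A, hA, hAo⟩ fun R hR => ?_
  rw [← he]
  exact (hle R hR).trans (le_normalizer_zl _ _)

end Cfsg.Agent.Omega.NOThreeL.VF.Q

end

-- merged: Cfsg.Agent.Mrg.Omega.NO3S.Level.ThmD
section

/-!
# THEOREM D (helper781, #19713 (A); referee report #20334)

`M ≥ S` acts on the elementary abelian group `W`, `V_P ≤ W ≤ S`.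

* `MinOff W M A` : `A ≤ M` is a 2-group, offends on `W`, and `|A / C_A(W)|` is minimal;
* `MinOff.cut` : without over-offenders on `W`, `C_A(V_P) ≤ C(W)` if `A` moves `V_P`;
* `eq_of_min` : if `A ≤ S` is a minimal offender which moves `V_P`, `P ∈ P*(S)`, `P ≤ M`, `C_{V_P}(O²(P)) = 1`, then
  `W = V_P`;
* `Prin S M W` : every 2-subgroup of `M` which moves `W` has an `M`-conjugate in `S` which moves some `V_P`,
  `P ∈ P*(S)`; `exists_minOff` : then there is no over-offender, and some minimal offender in `S` moves some `V_P`;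
* `exists_pss_min` : THEOREM B: some minimal offender in `S` moves some `V_P`, `P ∈ P**`;
* `thmD` : `W = V_P` for some `P ∈ P**`; `thmD_MZ`, `thmD_M0` : the cases `W = ⟨Z^M⟩`, `M = ⟨P*(S)⟩` and `M = M₀`.
-/

set_option autoImplicit false
set_option linter.unusedSectionVars false

namespace Cfsg.Agent.Omega.NO3S.Level

open Subgroup Cfsg Cfsg.Agent.ZN Cfsg.Agent.ZN.ChoiceBase Cfsg.Agent.Omega.MinPar Cfsg.Agent.Omega.Frame
open Cfsg.Agent.Omega.FrameNOFF (CZ)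
open Cfsg.Agent.Omega.FFThm (OffM ElemM NoOverM StmtM ConclM syl_of_sylow)
open Cfsg.Agent.Omega.FrameFF (cv)
open Cfsg.Agent.Omega.NOThreeL.VF (fM fM_le fM_cj fM_of_le le_fM_iff fM_le_iff fM_mul exists_two card_eq_rel
  fM_congr elemM_cj gallery)
open Cfsg.Agent.Omega.NOThreeL.Merge (MZ)

universe u

variable {G : Type u} [Group G] [Finite G] {S : Sylow 2 G} {M W V P A B : Subgroup G}

/-- `A ≤ M` is a 2-group which offends on `W`, with `|A / C_A(W)|` minimal. -/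
structure MinOff (W M A : Subgroup G) : Prop where
  le : A ≤ M
  pg : IsPGroup 2 A
  off : OffM W A
  min : ∀ B ≤ M, IsPGroup 2 B → OffM W B →
    (centralizer (W : Set G)).relIndex A ≤ (centralizer (W : Set G)).relIndex B

theorem off_of_fM (hE : ElemM W A) (hne : ¬ A ≤ centralizer (W : Set G)) (h : Nat.card W ≤ fM W A) : OffM W A :=
  ⟨hE, hne, le_fM_iff.1 h⟩

/-- **The cut**: a minimal offender which moves `V` has `C_A(V) ≤ C(W)`. -/
theorem MinOff.cut (m : MinOff W M A) (hVW : V ≤ W)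
    (hno : Nat.card A * Nat.card ↥(V ⊓ centralizer (A : Set G)) ≤ Nat.card V * Nat.card ↥(A ⊓ centralizer (V : Set G)))
    (hne : ¬ A ≤ centralizer (V : Set G)) : A ⊓ centralizer (V : Set G) ≤ centralizer (W : Set G) := by
  by_contra hcon
  set A₁ : Subgroup G := A ⊓ centralizer (V : Set G) with hA₁
  have h1 : Nat.card W ≤ fM W A₁ := (le_fM_iff.2 m.off.le).trans (fM_le hVW hno)
  have h2 : OffM W A₁ := off_of_fM (NOThreeL.VF.elemM_mono m.off.toElemM inf_le_left) hcon h1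
  have h3 := m.min A₁ (inf_le_left.trans m.le) (m.pg.to_le inf_le_left) h2
  have e4 : A₁ ⊓ centralizer (W : Set G) = A ⊓ centralizer (W : Set G) := by
    rw [hA₁, inf_assoc, inf_eq_right.2 (centralizer_le (s := (V : Set G)) hVW)]
  have h4 : Nat.card A ≤ Nat.card A₁ := by
    rw [card_eq_rel W A, card_eq_rel W A₁, e4]
    exact Nat.mul_le_mul_right _ h3
  have h5 : A₁ = A := Subgroup.eq_of_le_of_card_ge inf_le_left h4
  exact hne (inf_eq_left.1 h5)

theorem MinOff.cj (m : MinOff W M A) {g : G} (hg : g ∈ M) (hM : M ≤ normalizer (W : Set G)) :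
    MinOff W M (ChoiceBase.cj g A) where
  le := by
    have h1 := cj_mono g m.le
    rwa [cj_eq_of_mem_normalizer (le_normalizer hg)] at h1
  pg := isPGroup_cj g m.pg
  off := by
    have h1 := fM_cj (A := A) (hM hg)
    refine off_of_fM (elemM_cj (hM hg) m.off.toElemM) (fun h => m.off.ne ?_) ?_
    · have h2 := cj_mono g⁻¹ h
      rw [cj_inv_cj, cj_centralizer, cj_eq_of_mem_normalizer (inv_mem (hM hg))] at h2
      exact h2
    · rw [h1.1]
      exact le_fM_iff.2 m.off.le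
  min := fun B hB hB2 hoff => by
    rw [(fM_cj (A := A) (hM hg)).2]
    exact m.min B hB hB2 hoff

/-- No over-offender on `V_P` in `P`. -/
theorem noOver_line (hFF : StmtM.{u}) (hc : IsCharacteristicTwoType G) (hP : IsParS (S : Subgroup G) P)
    (hA : A ≤ P) (hE : ElemM (zl (S : Subgroup G) P) A) (hne : ¬ A ≤ centralizer (zl (S : Subgroup G) P : Set G)) :
    Nat.card A * Nat.card ↥(zl (S : Subgroup G) P ⊓ centralizer (A : Set G)) ≤
      Nat.card (zl (S : Subgroup G) P) * Nat.card ↥(A ⊓ centralizer (zl (S : Subgroup G) P : Set G)) := by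
  by_contra hcon
  have hoff : OffM (zl (S : Subgroup G) P) A := ⟨hE, hne, (not_le.1 hcon).le⟩
  exact hcon ((hFF G (S : Subgroup G) P (syl_of_sylow S hP.le) hP.toIsMinPar (hP.isLoc.char2 S hc) ⟨A, hA, hoff⟩).1
    A hA hE)

/-- **THEOREM D, the core**: `W = V_P`. -/
theorem eq_of_min (hFF : StmtM.{u}) (hc : IsCharacteristicTwoType G) (hP : IsParS (S : Subgroup G) P) (hPM : P ≤ M)
    (hcv : cv (S : Subgroup G) P = ⊥) (hWc : W ≤ centralizer (W : Set G)) (hWs : ∀ x ∈ W, x ^ 2 = 1)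
    (hMW : M ≤ normalizer (W : Set G)) (hVW : zl (S : Subgroup G) P ≤ W) (hWS : W ≤ (S : Subgroup G))
    (no : NoOverM W M) (m : MinOff W M A) (hAS : A ≤ (S : Subgroup G))
    (hne : ¬ A ≤ centralizer (zl (S : Subgroup G) P : Set G)) : W = zl (S : Subgroup G) P := by
  have hSP : (S : Subgroup G) ≤ P := hP.le
  have hAP : A ≤ P := hAS.trans hSP
  have hC : centralizer (W : Set G) ≤ centralizer (zl (S : Subgroup G) P : Set G) := centralizer_le hVW
  have hEV : ElemM (zl (S : Subgroup G) P) A :=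
    ⟨fun a ha => hC (m.off.sq a ha), fun a ha b hb => hC (m.off.comm a ha b hb)⟩
  have hAC := m.cut hVW (noOver_line hFF hc hP hAP hEV hne) hne
  have s : NOThreeL.VF.Q.Sit M W (zl (S : Subgroup G) P) :=
    { ab := fun x hx y hy => (mem_centralizer_iff.1 (hWc hx) y hy).symm
      sq := fun x hx => by rw [← pow_two]; exact hWs x hx
      VW := hVW
      nW := hMW }
  have hoffV := s.offM_of m.off hne hAC
  obtain ⟨hno, hcon⟩ := hFF G (S : Subgroup G) P (syl_of_sylow S hSP) hP.toIsMinPar (hP.isLoc.char2 S hc)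
    ⟨A, hAP, hoffV⟩
  refine le_antisymm ?_ hVW
  rcases hcon with ⟨F, _, _, _, k, hk, ⟨N⟩⟩ | ⟨k, m', hk, hm, ⟨N⟩⟩
  · rw [hcv] at N
    exact NOThreeL.VF.Q.nat_le N s S.isPGroup' hSP hPM hWS no hno hAS m.off hne hAC
  · rw [hcv] at N
    exact NOThreeL.VF.Q.S.sym_le N (by omega) s S.isPGroup' hSP hPM hWS no hno hAS m.off hne hAC

/-- The principle for `M` and `W`. -/
def Prin (S : Sylow 2 G) (M W : Subgroup G) : Prop :=
  ∀ B ≤ M, IsPGroup 2 B → ¬ B ≤ centralizer (W : Set G) → ∃ m ∈ M, cj m B ≤ (S : Subgroup G) ∧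
    ∃ P, IsParS (S : Subgroup G) P ∧ ¬ cj m B ≤ centralizer (zl (S : Subgroup G) P : Set G)

/-- **(1)** no over-offender on `W`, and a minimal offender in `S` moves some `V_P`, `P ∈ P*(S)`. -/
theorem exists_minOff (hFF : StmtM.{u}) (hc : IsCharacteristicTwoType G) (hMW : M ≤ normalizer (W : Set G))
    (hVW : ∀ P, IsParS (S : Subgroup G) P → zl (S : Subgroup G) P ≤ W) (hprin : Prin S M W)
    (hoff : ∃ A ≤ M, OffM W A) :
    NoOverM W M ∧ ∃ A ≤ (S : Subgroup G), MinOff W M A ∧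
      ∃ P, IsParS (S : Subgroup G) P ∧ ¬ A ≤ centralizer (zl (S : Subgroup G) P : Set G) := by
  classical
  let 𝒞 : Set (Subgroup G) := {B | B ≤ M ∧ IsPGroup 2 B ∧ ElemM W B ∧ ¬ B ≤ centralizer (W : Set G)}
  have hrep : ∀ A ≤ M, ElemM W A → ¬ A ≤ centralizer (W : Set G) → ∃ B ∈ 𝒞, fM W B = fM W A := by
    intro A hA hE hne
    obtain ⟨B, hB, hB2, h⟩ := exists_two (hA.trans hMW) hE
    refine ⟨B, ⟨hB.trans hA, hB2, NOThreeL.VF.elemM_mono hE hB, fun h1 => hne fun a ha => ?_⟩, fM_congr hB h⟩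
    obtain ⟨b, hb, hab⟩ := h a ha
    have h2 := mul_mem (h1 hb) hab
    have e : b * (b⁻¹ * a) = a := by group
    rwa [e] at h2
  obtain ⟨A₀, hA₀M, hA₀⟩ := hoff
  obtain ⟨B₀, hB₀, hfB₀⟩ := hrep A₀ hA₀M hA₀.toElemM hA₀.ne
  have hVf₀ : Nat.card W ≤ fM W B₀ := by
    rw [hfB₀]
    exact le_fM_iff.2 hA₀.le
  -- no over-offender
  have hNO : NoOverM W M := by
    obtain ⟨B₁, hB₁, hmax⟩ := Set.exists_max_image 𝒞 (fM W) (Set.toFinite _) ⟨B₀, hB₀⟩
    obtain ⟨B, ⟨hB, hBf⟩, hmin⟩ := Set.exists_min_image {B | B ∈ 𝒞 ∧ fM W B = fM W B₁}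
      (fun B => (centralizer (W : Set G)).relIndex B) (Set.toFinite _) ⟨B₁, hB₁, rfl⟩
    obtain ⟨m, hm, hmS, P, hP, hmP⟩ := hprin B hB.1 hB.2.1 hB.2.2.2
    have hcj := fM_cj (A := B) (hMW hm)
    have hWV := hVW P hP
    have hCVW : centralizer (W : Set G) ≤ centralizer (zl (S : Subgroup G) P : Set G) := centralizer_le hWV
    set A : Subgroup G := cj m B with hAd
    have hAM : A ≤ M := by
      have h1 := cj_mono m hB.1
      rwa [cj_eq_of_mem_normalizer (le_normalizer hm)] at h1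
    have hAE : ElemM W A := elemM_cj (hMW hm) hB.2.2.1
    have hAW : ElemM (zl (S : Subgroup G) P) A :=
      ⟨fun a ha => hCVW (hAE.sq a ha), fun a ha b hb => hCVW (hAE.comm a ha b hb)⟩
    have hfA : fM W A = fM W B₁ := hcj.1.trans hBf
    have hle := fM_le hWV (noOver_line hFF hc hP (hmS.trans hP.le) hAW hmP)
    set A₁ : Subgroup G := A ⊓ centralizer (zl (S : Subgroup G) P : Set G) with hA₁
    have hA₁V : A₁ ≤ centralizer (W : Set G) := by
      by_contra hcon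
      have hmem : A₁ ∈ 𝒞 := ⟨inf_le_left.trans hAM, (S.isPGroup'.to_le hmS).to_le inf_le_left,
        NOThreeL.VF.elemM_mono hAE inf_le_left, hcon⟩
      have h1 := hmax A₁ hmem
      have h2 : fM W A₁ = fM W B₁ := le_antisymm h1 (hfA ▸ hle)
      have h3 := hmin A₁ ⟨hmem, h2⟩
      rw [← hcj.2] at h3
      have e4 : A₁ ⊓ centralizer (W : Set G) = A ⊓ centralizer (W : Set G) := by
        rw [hA₁, inf_assoc, inf_eq_right.2 hCVW]
      have h4 : Nat.card A ≤ Nat.card A₁ := by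
        rw [card_eq_rel W A, card_eq_rel W A₁, e4]
        exact Nat.mul_le_mul_right _ h3
      have h5 : A₁ = A := Subgroup.eq_of_le_of_card_ge inf_le_left h4
      exact hmP (inf_eq_left.1 h5)
    have hfB₁ : fM W B₁ ≤ Nat.card W := by
      rw [← hfA, ← fM_of_le hA₁V]
      exact hle
    intro D hD hE
    rw [← fM_le_iff]
    by_cases hne : D ≤ centralizer (W : Set G)
    · exact (fM_of_le hne).le
    · obtain ⟨B', hB', h1⟩ := hrep D hD hE hne
      rw [← h1]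
      exact (hmax B' hB').trans hfB₁
  refine ⟨hNO, ?_⟩
  have hne : {B | B ≤ M ∧ IsPGroup 2 B ∧ OffM W B}.Nonempty :=
    ⟨B₀, hB₀.1, hB₀.2.1, off_of_fM hB₀.2.2.1 hB₀.2.2.2 hVf₀⟩
  obtain ⟨B, ⟨hB1, hB2, hB3⟩, hmin⟩ := Set.exists_min_image _
    (fun B => (centralizer (W : Set G)).relIndex B) (Set.toFinite _) hne
  have mB : MinOff W M B := ⟨hB1, hB2, hB3, fun D hD hD2 hDo => hmin D ⟨hD, hD2, hDo⟩⟩
  obtain ⟨m, hm, hmS, P, hP, hmP⟩ := hprin B hB1 hB2 hB3.ne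
  exact ⟨cj m B, hmS, mB.cj hm hMW, P, hP, hmP⟩

/-- The family of the minimal offenders in `S` and of the subgroups of `C_S(W)`. -/
def fam (S : Subgroup G) (W M : Subgroup G) : Set (Subgroup G) :=
  {A | A ≤ S ∧ (MinOff W M A ∨ A ≤ centralizer (W : Set G))}

/-- It is a family of best offenders (helper343 #20334). -/
theorem bfam_fam (hMW : M ≤ normalizer (W : Set G)) (no : NoOverM W M) :
    OneLine.BFam (S : Subgroup G) W M (fam (S : Subgroup G) W M) where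
  le := fun A hA => hA.1
  elem := fun A hA => by
    rcases hA.2 with m | h
    · exact m.off.toElemM
    · exact ⟨fun a ha => pow_mem (h ha) 2, fun a ha b hb =>
        mul_mem (mul_mem (mul_mem (h ha) (h hb)) (inv_mem (h ha))) (inv_mem (h hb))⟩
  best := fun A hA B hAB hBA => by
    rcases hA.2 with m | h
    · have h1 := no B (hBA.trans m.le) (NOThreeL.VF.elemM_mono m.off.toElemM hBA)
      have e : B ⊓ centralizer (W : Set G) = A ⊓ centralizer (W : Set G) :=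
        le_antisymm (inf_le_inf_right _ hBA) (le_inf hAB inf_le_right)
      rw [e] at h1
      exact h1.trans m.off.le
    · have e1 : W ⊓ centralizer (B : Set G) = W := inf_eq_left.2 (le_centralizer_iff.1 (hBA.trans h))
      have e2 : W ⊓ centralizer (A : Set G) = W := inf_eq_left.2 (le_centralizer_iff.1 h)
      rw [e1, e2]
      exact Nat.mul_le_mul_right _ (Subgroup.card_le_of_le hBA)
  cut := fun A hA B hAB hBA he => by
    refine ⟨B, ⟨hBA.trans hA.1, ?_⟩, rfl⟩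
    by_cases hB : B ≤ centralizer (W : Set G)
    · exact Or.inr hB
    · rcases hA.2 with m | h
      · have e : B ⊓ centralizer (W : Set G) = A ⊓ centralizer (W : Set G) :=
          le_antisymm (inf_le_inf_right _ hBA) (le_inf hAB inf_le_right)
        refine Or.inl ⟨hBA.trans m.le, m.pg.to_le hBA, ⟨NOThreeL.VF.elemM_mono m.off.toElemM hBA, hB, ?_⟩,
          fun D hD hD2 hDo => ?_⟩
        · rw [he, e]
          exact m.off.le
        · refine le_trans ?_ (m.min D hD hD2 hDo)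
          have h1 := card_eq_rel W A
          have h2 := card_eq_rel W B
          rw [e] at h2
          have h3 := Subgroup.card_le_of_le hBA
          rw [h1, h2] at h3
          exact Nat.le_of_mul_le_mul_right h3 Nat.card_pos
      · exact absurd (hBA.trans h) hB
  conj := fun A hA g hg hS => by
    refine ⟨hS, ?_⟩
    rcases hA.2 with m | h
    · exact Or.inl (m.cj hg hMW)
    · right
      have h1 := cj_mono g h
      rwa [cj_centralizer, cj_eq_of_mem_normalizer (hMW hg)] at h1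

/-- The two copies of the definition of a family. -/
theorem toB {S U L : Subgroup G} {AA : Set (Subgroup G)} (h : OneLine.BFam S U L AA) : ThmB.BFam S U L AA :=
  ⟨h.le, h.elem, h.best, h.cut, h.conj⟩

/-- **THEOREM B**: some minimal offender in `S` moves some `V_P`, `P ∈ P**`. -/
theorem exists_pss_min (hFF : StmtM.{u}) (h : HypC S)
    (hty : ∀ P, PSS (S : Subgroup G) P → ThmB.Main.Ty (S : Subgroup G) P)
    (hWc : W ≤ centralizer (W : Set G)) (hMW : M ≤ normalizer (W : Set G))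
    (hPM : ∀ P, IsParS (S : Subgroup G) P → P ≤ M) (hZW : zc (S : Subgroup G) ≤ W) (hprin : Prin S M W)
    (hoff : ∃ A ≤ M, OffM W A) :
    NoOverM W M ∧ ∃ A ≤ (S : Subgroup G), MinOff W M A ∧
      ∃ P, PSS (S : Subgroup G) P ∧ ¬ A ≤ centralizer (zl (S : Subgroup G) P : Set G) := by
  have hc := h.ctx.char2
  have hVW : ∀ L ≤ M, zl (S : Subgroup G) L ≤ W := fun L hL => ZN.zl_le hZW (hL.trans hMW)
  obtain ⟨no, A, hAS, m, R, hR, hAR⟩ := exists_minOff hFF hc hMW (fun P hP => hVW P (hPM P hP)) hprin hoff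
  refine ⟨no, ?_⟩
  by_contra hcon
  push Not at hcon
  obtain ⟨P, hP, hPn⟩ := h.ex
  have hRn : ¬ NonLoc R (CZ (S : Subgroup G)) := fun hl => hAR (hcon A hAS m R ⟨hR, hl⟩)
  have hab : ∀ x ∈ W, ∀ y ∈ W, x * y = y * x := fun x hx y hy => (mem_centralizer_iff.1 (hWc hx) y hy).symm
  have X := toB ((bfam_fam (S := S) hMW no).mono hab (hVW (P ⊔ R) (sup_le (hPM P hP) (hPM R hR)))
    (M := P ⊔ R) (sup_le (hPM P hP) (hPM R hR)))
  have h1 : ∀ B ∈ fam (S : Subgroup G) W M, B ≤ o2 P := by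
    intro B hB
    rw [← IsParS.inf_centralizer S hc hP]
    refine le_inf hB.1 ?_
    rcases hB.2 with mB | hB2
    · exact hcon B hB.1 mB P ⟨hP, hPn⟩
    · exact hB2.trans (centralizer_le (hVW P (hPM P hP)))
  have h2 := ThmB.Main.le_of_bfam (h.hypN hP hPn) (hty P ⟨hP, hPn⟩) hR (Or.inl hRn) X h1 A ⟨hAS, Or.inl m⟩
  rw [← IsParS.inf_centralizer S hc hR] at h2
  exact hAR (h2.trans inf_le_right)

/-- **THEOREM D.** -/
theorem thmD (h : HypC S) (hty : ∀ P, PSS (S : Subgroup G) P → ThmB.Main.Ty (S : Subgroup G) P)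
    (hWc : W ≤ centralizer (W : Set G)) (hWs : ∀ x ∈ W, x ^ 2 = 1) (hMW : M ≤ normalizer (W : Set G))
    (hWS : W ≤ (S : Subgroup G)) (hPM : ∀ P, IsParS (S : Subgroup G) P → P ≤ M)
    (hZW : zc (S : Subgroup G) ≤ W) (hprin : Prin S M W) (hoff : ∃ A ≤ M, OffM W A) :
    ∃ P, PSS (S : Subgroup G) P ∧ W = zl (S : Subgroup G) P := by
  obtain ⟨no, A, hAS, m, P, hP, hAP⟩ := exists_pss_min FF.Glob.ffthmM h hty hWc hMW hPM hZW hprin hoff
  exact ⟨P, hP, eq_of_min FF.Glob.ffthmM h.ctx.char2 hP.par (hPM P hP.par) (h.hypN hP.par hP.nonLoc).toHyp.cv hWc hWs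
    hMW (ZN.zl_le hZW ((hPM P hP.par).trans hMW)) hWS no m hAS hAP⟩

/-! ### The two instances -/

/-- The types of the FF theorem from `FFMod`. -/
theorem ty_of_ff (h : HypC S) (hff : ∀ P, PSS (S : Subgroup G) P → FFMod (S : Subgroup G) P) :
    ∀ P, PSS (S : Subgroup G) P → ThmB.Main.Ty (S : Subgroup G) P := fun P hP =>
  ThmB.Limit.ty_of_ffMod (h.hypN hP.par hP.nonLoc) (hff P hP)

/-- `⟨P*(S)⟩` is local. -/
theorem isLoc_MZ (h : HypC S) : IsLoc (S : Subgroup G) (MZ (S : Subgroup G)) :=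
   NOThreeL.Merge.isLoc_MZ h.ctx h.full h.noFF

theorem prin_MZ (h : HypC S) : Prin S (MZ (S : Subgroup G)) (zl (S : Subgroup G) (MZ (S : Subgroup G))) := by
  intro B hB hB2 hne
  obtain ⟨m, hm, P, hP, -, h1, h2⟩ := gallery h.ctx.char2 S (isLoc_MZ h)
    (sSup_le fun P hP => le_sSup ⟨hP, le_sSup hP⟩) hB hB2 hne
  exact ⟨m, hm, h1, P, hP, h2⟩

/-- **THEOREM D for `M = ⟨P*(S)⟩`**: `⟨Z^M⟩` is not FF, or `⟨Z^M⟩ = V_P` for some `P ∈ P**`. -/
theorem thmD_MZ (h : HypC S) (hty : ∀ P, PSS (S : Subgroup G) P → ThmB.Main.Ty (S : Subgroup G) P)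
    (hoff : ∃ A ≤ MZ (S : Subgroup G), OffM (zl (S : Subgroup G) (MZ (S : Subgroup G))) A) :
    ∃ P, PSS (S : Subgroup G) P ∧ zl (S : Subgroup G) (MZ (S : Subgroup G)) = zl (S : Subgroup G) P := by
  have hL := isLoc_MZ h
  have h1 := hL.zl_le S h.ctx.char2
  exact thmD h hty (h1.trans ((ZN.zc_le _).trans ((le_centralizer_zc _).trans (centralizer_le h1))))
    (fun x hx => (ChoiceBase.mem_zc.1 (h1 hx)).2.1) (ZN.le_normalizer_zl _ _) ((h1.trans (ZN.zc_le _)).trans (hL.o2_le S))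
    (fun P hP => le_sSup hP) ZN.zc_le_zl (prin_MZ h) hoff

section M0

variable (hG : IsCharacteristicTwoType G) (hj : ∀ P, IsParS (S : Subgroup G) P → jj (S : Subgroup G) ≤ o2 P)

include hG hj in
/-- The principle for `M₀` and `V ≤ X₀`. -/
theorem prin_M0 (hW : W ≤ X0 (S : Subgroup G)) : Prin S (M0 (S : Subgroup G)) W := by
  intro B hB hB2 hne
  obtain ⟨n, hn, hnS⟩ := FFThm.exists_conj_le S (S_le_M0 _) hB2 hB
  have hnK : ¬ cj n B ≤ K0 (S : Subgroup G) := by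
    intro h1
    have h2 := cj_mono n⁻¹ h1
    rw [cj_inv_cj, cj_eq_of_mem_normalizer (inv_mem hn : n⁻¹ ∈ normalizer (K0 (S : Subgroup G) : Set G))] at h2
    exact hne (h2.trans ((K0_cent _).trans (centralizer_le hW)))
  obtain ⟨D, ⟨g, hg, rfl⟩, hDS, P, hP, hDP⟩ := principle (S := S) (F := {D | ∃ g ∈ M0 (S : Subgroup G), cj g B = D})
    (fun D hD m hm => by
      obtain ⟨g, hg, rfl⟩ := hD
      exact ⟨m * g, mul_mem hm hg, (cj_cj m g B).symm⟩) ⟨n, hn, rfl⟩ hnS hnK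
  refine ⟨g, hg, hDS, P, hP, fun h1 => hDP ?_⟩
  rw [← IsParS.inf_centralizer S hG hP]
  exact le_inf hDS h1

end M0

/-- **THEOREM D for `M₀`**: `⟨Z^{M₀}⟩` is not FF, or `⟨Z^{M₀}⟩ = V_P` for some `P ∈ P**`. -/
theorem thmD_M0 (h : HypC S) (hty : ∀ P, PSS (S : Subgroup G) P → ThmB.Main.Ty (S : Subgroup G) P)
    (hoff : ∃ A ≤ M0 (S : Subgroup G), OffM (zl (S : Subgroup G) (M0 (S : Subgroup G))) A) :
    ∃ P, PSS (S : Subgroup G) P ∧ zl (S : Subgroup G) (M0 (S : Subgroup G)) = zl (S : Subgroup G) P := by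
  have hj := jj_le_all h hty
  have h1 := zl_M0_le hj
  exact thmD h hty (h1.trans ((X0_comm _).trans (centralizer_le h1))) (fun x hx => X0_sq _ x (h1 hx))
    (ZN.le_normalizer_zl _ _) ((h1.trans (ZN.zc_le _)).trans (K0_le _)) (fun P hP => par_le hP) ZN.zc_le_zl
    (prin_M0 h.ctx.char2 hj h1) hoff

/-- If `⟨Z^{M₀}⟩ = V_P`, then `K₀ = O₂(P)` is weakly closed in `S`. -/
theorem K0_eq_o2 (h : HypC S) (hty : ∀ P, PSS (S : Subgroup G) P → ThmB.Main.Ty (S : Subgroup G) P)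
    (hP : IsParS (S : Subgroup G) P) (he : zl (S : Subgroup G) (M0 (S : Subgroup G)) = zl (S : Subgroup G) P) :
    K0 (S : Subgroup G) = o2 P := by
  rw [← cs_V0 h.ctx.char2 (jj_le_all h hty), he, IsParS.inf_centralizer S h.ctx.char2 hP]

end Cfsg.Agent.Omega.NO3S.Level

end
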